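import Mathlib
import Cfsg.Agent.S0055
import Cfsg.Agent.FGS.KH.Key

/-!
# Coprime action lemmas for a prime order group acting on a nilpotent group of operators
-/

set_option autoImplicit false
set_option linter.unusedSectionVars false
set_option linter.unusedVariables false

open Subgroup
open scoped Pointwise commutatorElement

namespace CL.XF

open CL.Misc CL.FroA

variable {X : Type*} [Group X] [Finite X]

theorem dis {V K : Subgroup X} [IsMulCommutative V] (hn : K ≤ normalizer (V : Set X))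
    (hc : (Nat.card K).Coprime (Nat.card V)) {u : X} (hu : u ∈ ⁅V, K⁆) (e : ∀ a ∈ K, a * u = u * a) : u = 1 :=
  (eq_bot_iff_forall _).1 (Cfsg.Agent.S0055.result K V hn hc).1 u
    ⟨⟨le_normalizer_iff_commutator_le_left.1 hn hu, e⟩, hu⟩

theorem prime_cen {R : Subgroup X} (hR : (Nat.card R).Prime) {a x : X} (ha : a ∈ R) (h1 : a ≠ 1)
    (e : a * x = x * a) : ∀ b ∈ R, b * x = x * b := by
  have := Fact.mk hR
  have h := (eq_bot_or_eq_top_of_prime_card ((centralizer {x}).subgroupOf R)).resolve_left fun h =>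
    h1 (congrArg Subtype.val ((eq_bot_iff_forall _).1 h ⟨a, ha⟩ (mem_centralizer_singleton_iff.2 e)))
  exact fun b hb => mem_centralizer_singleton_iff.1 (h.ge (mem_top (⟨b, hb⟩ : R)))

theorem solv_prime {R : Subgroup X} (hR : (Nat.card R).Prime) : Group.IsSolvable R := by
  have := Fact.mk hR
  have := isCyclic_of_prime_card (α := R) rfl
  infer_instance

omit [Finite X] in
theorem ab_of_le {A B : Subgroup X} [h : IsMulCommutative B] (hle : A ≤ B) : IsMulCommutative A :=
  ⟨⟨fun a b => Subtype.ext (congrArg Subtype.val (h.is_comm.comm (⟨a, hle a.2⟩ : B) ⟨b, hle b.2⟩) :)⟩⟩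

open scoped IsMulCommutative in
theorem nil_ab (A : Subgroup X) [IsMulCommutative A] : Group.IsNilpotent A := inferInstance

/-- a prime order group without fixed points: the commutator with an abelian group acts trivially -/
theorem frob {B Z W : Subgroup X} [IsMulCommutative B] [IsMulCommutative W] (hZ : (Nat.card Z).Prime)
    (n1 : Z ≤ normalizer (B : Set X)) (n2 : B ≤ normalizer (W : Set X)) (n3 : Z ≤ normalizer (W : Set X))
    (c1 : (Nat.card B).Coprime (Nat.card W)) (c2 : (Nat.card Z).Coprime (Nat.card B))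
    (h : ∀ w ∈ W, (∀ a ∈ Z, w * a = a * w) → w = 1) : ⁅B, Z⁆ ≤ centralizer (W : Set X) := by
  have h1 : ⁅B, Z⁆ ≤ B := le_normalizer_iff_commutator_le_left.1 n1
  have := ab_of_le h1
  have h2 : ⁅W, ⁅B, Z⁆⁆ ≤ W := le_normalizer_iff_commutator_le_left.1 (h1.trans n2)
  have hF : Fr ⁅W, ⁅B, Z⁆⁆ ⁅B, Z⁆ Z := ⟨⟨normalizer_commutator_ge_right _ _, nil_ab _, fun g hg e =>
    dis (h1.trans n2) (c1.coprime_dvd_left (card_dvd_of_le h1)) hg e⟩,
    le_normalizer_commutator n3 (normalizer_commutator_ge_right _ _), normalizer_commutator_ge_right _ _,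
    fun a ha a1 => (eq_bot_iff_forall _).2 fun x hx => dis n1 c2 hx.1
      (prime_cen hZ ha a1 (mem_centralizer_singleton_iff.1 hx.2).symm)⟩
  rw [← le_centralizer_iff, ← commutator_eq_bot_iff_le_centralizer]
  by_contra hne
  obtain ⟨c, hc, c1, e⟩ := hF.exists_fix hne
  exact c1 (h c (h2 hc) e)

/-- the product over all conjugates -/
theorem trick {A F K S : Subgroup X} [hA : IsMulCommutative A] (hn : F ≤ normalizer (A : Set X))
    (h0 : ∀ g ∈ A, (∀ a ∈ F, a * g = g * a) → g = 1) (hc : (Nat.card F).Coprime (Nat.card A))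
    {y : X} (hy : y ∈ A) (h1 : ∀ f ∈ F, f ∈ S → f * y * f⁻¹ * y⁻¹ ∈ K)
    (h2 : ∀ f ∈ F, f ∉ S → f * y * f⁻¹ ∈ K) : y ∈ K := by
  classical
  let _ : CommGroup A := { (inferInstance : Group A) with mul_comm := hA.is_comm.comm }
  let φ := QuotientGroup.mk' (K.subgroupOf A)
  let σ := A.normalizerMonoidHom
  have hφ : ∀ x : A, φ x = 1 ↔ (x : X) ∈ K := fun x => QuotientGroup.eq_one_iff x
  have := Fintype.ofFinite F
  have key : ∀ f : F, φ (σ ⟨f, hn f.2⟩ ⟨y, hy⟩) = if f ∈ S.subgroupOf F then φ ⟨y, hy⟩ else 1 := fun f => by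
    split_ifs with hf
    · rw [← mul_inv_eq_one, ← map_inv, ← map_mul]
      exact (hφ _).2 (h1 f f.2 hf)
    · exact (hφ _).2 (h2 f f.2 hf)
  have h4 : ∏ f : F, σ ⟨f, hn f.2⟩ ⟨y, hy⟩ = 1 := Subtype.ext (h0 _ (Subtype.prop _)
    fun g hg => by
      rw [← mul_inv_eq_iff_eq_mul]
      refine congrArg Subtype.val (show σ ⟨g, hn hg⟩ _ = _ from ?_)
      rw [map_prod, ← Equiv.prod_comp (Equiv.mulLeft (⟨g, hg⟩ : F))
        fun f : F => σ ⟨f, hn f.2⟩ ⟨y, hy⟩]
      refine Finset.prod_congr rfl fun f _ => ?_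
      rw [← MulAut.mul_apply, ← map_mul]
      rfl)
  have h5 := congrArg φ h4
  rw [map_prod, map_one, Finset.prod_congr rfl fun f _ => key f, ← Finset.prod_filter,
    Finset.prod_const, ← Fintype.card_subtype, ← Nat.card_eq_fintype_card] at h5
  exact (hφ ⟨y, hy⟩).1 (orderOf_eq_one_iff.1 (Nat.eq_one_of_dvd_coprimes hc
    ((orderOf_dvd_of_pow_eq_one h5).trans (card_subgroup_dvd_card _))
    ((orderOf_map_dvd φ _).trans (orderOf_dvd_natCard _))))

/-- the elements acting trivially on `A` modulo `K` -/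
def Tr (A K : Subgroup X) : Subgroup X where
  carrier := {x | x ∈ normalizer (A : Set X) ∧ ∀ a ∈ A, x * a * x⁻¹ * a⁻¹ ∈ K}
  one_mem' := ⟨one_mem _, fun a _ => by simp⟩
  mul_mem' := fun {x y} hx hy => ⟨mul_mem hx.1 hy.1, fun a ha => by
    convert mul_mem (hx.2 _ (conj_mem hy.1 ha)) (hy.2 a ha) using 1
    group⟩
  inv_mem' := fun {x} hx => ⟨inv_mem hx.1, fun a ha => by
    convert inv_mem (hx.2 _ (conj_mem (inv_mem hx.1) ha)) using 1
    group⟩

omit [Finite X] in
theorem mem_Tr {A K : Subgroup X} {x : X} :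
    x ∈ Tr A K ↔ x ∈ normalizer (A : Set X) ∧ ∀ a ∈ A, x * a * x⁻¹ * a⁻¹ ∈ K := Iff.rfl

theorem Tr_le {A K : Subgroup X} (h : K ≤ A) : Tr A K ≤ normalizer (K : Set X) :=
  nm_of_conj fun x hx k hk => by simpa using mul_mem (hx.2 k (h hk)) hk

theorem nm_Tr {A K B : Subgroup X} (h1 : B ≤ normalizer (A : Set X)) (h2 : B ≤ normalizer (K : Set X)) :
    B ≤ normalizer ((Tr A K : Subgroup X) : Set X) :=
  nm_of_conj fun g hg x hx => ⟨conj_mem (le_normalizer (h1 hg)) hx.1, fun a ha => by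
    convert conj_mem (h2 hg) (hx.2 _ (conj_mem (inv_mem (h1 hg)) ha)) using 1
    group⟩

omit [Finite X] in
theorem le_Tr {A K B : Subgroup X} (h1 : B ≤ normalizer (A : Set X)) (h2 : ⁅A, B⁆ ≤ K) : B ≤ Tr A K :=
  fun b hb => ⟨h1 hb, fun a ha => h2 (commutator_comm B A ▸ commutator_mem_commutator hb ha)⟩

theorem le_of_Tr {P A : Subgroup X} (hP : Group.IsNilpotent P) (h : P ⊓ Tr P A ≤ A) : P ≤ A := by
  obtain ⟨n, hn⟩ := (isNilpotent_iff_lowerCentralSeries P).1 hP
  suffices H : ∀ n, P.lowerCentralSeries n ≤ A → P ≤ A from H n (hn ▸ bot_le)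
  intro n
  induction n with
  | zero => exact id
  | succ n ih =>
    have h1 : P.lowerCentralSeries n ≤ P := P.lowerCentralSeries_antitone (Nat.zero_le n)
    exact fun e => ih fun x hx => h ⟨h1 hx, le_normalizer (h1 hx), fun a ha => e (commutator_mem_commutator hx ha)⟩

end CL.XF
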