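import Mathlib
import Cfsg.Agent.FGS.XF.Bas

/-!
# The irreducible faithful case
-/

set_option autoImplicit false
set_option linter.unusedSectionVars false
set_option linter.unusedVariables false

open Subgroup
open scoped Pointwise commutatorElement

namespace CL.XF

open CL.Misc CL.FroA CL.KH

variable {X : Type*} [Group X] [Finite X]

/-- The setting: `F R` acts coprimely on `V P`. -/
structure St (V P F R : Subgroup X) : Prop where
  hy : Hy V F
  nPV : P ≤ normalizer (V : Set X)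
  nRV : R ≤ normalizer (V : Set X)
  nFP : F ≤ normalizer (P : Set X)
  nRP : R ≤ normalizer (P : Set X)
  nRF : R ≤ normalizer (F : Set X)
  sol : Group.IsSolvable V
  nil : Group.IsNilpotent P
  pr : (Nat.card R).Prime
  cPV : (Nat.card P).Coprime (Nat.card V)
  cFV : (Nat.card F).Coprime (Nat.card V)
  cRV : (Nat.card R).Coprime (Nat.card V)
  cFP : (Nat.card F).Coprime (Nat.card P)
  cRP : (Nat.card R).Coprime (Nat.card P)
  cRF : (Nat.card R).Coprime (Nat.card F)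
  alt : F ⊓ centralizer (R : Set X) = ⊥ ∨
    ((Nat.card (F ⊓ centralizer (R : Set X) : Subgroup X)).Prime ∧ ∀ g ∈ P, (∀ a ∈ F, a * g = g * a) → g = 1)

/-- `c` centralises `R` and the fixed points of `R` in `V`. -/
def Fx (V R : Subgroup X) (c : X) : Prop :=
  (∀ a ∈ R, a * c = c * a) ∧ ∀ u ∈ V, (∀ a ∈ R, u * a = a * u) → c * u = u * c

variable {V P F R A K : Subgroup X}

theorem nm_zp {B : Subgroup X} {c : X} (h : ∀ a ∈ B, a * c = c * a) : B ≤ normalizer ((zpowers c : Subgroup X) : Set X) :=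
  (le_centralizer_iff.1 (zpowers_le.2 h)).trans (centralizer_le_normalizer _)

theorem Fx.dis [IsMulCommutative V] {c : X} (hc : Fx V R c) (hn : c ∈ normalizer (V : Set X))
    (co : (Nat.card (zpowers c)).Coprime (Nat.card V)) {u : X} (hu : u ∈ ⁅V, zpowers c⁆) (e : ∀ a ∈ R, u * a = a * u) : u = 1 :=
  XF.dis (zpowers_le.2 hn) co hu fun a ha => mem_centralizer_singleton_iff.1 (zpowers_le.2 (mem_centralizer_singleton_iff.2
    (hc.2 u (le_normalizer_iff_commutator_le_left.1 (zpowers_le.2 hn) hu) e)) ha)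

/-- `R` acts trivially on `A / L` for the components on which `c` is not trivial -/
theorem comm_le [IsMulCommutative V] [IsMulCommutative A] (h : St V P F R) (hA : A ≤ P) (hRA : R ≤ normalizer (A : Set X))
    {c : X} (hcP : c ∈ P) (hcA : ∀ a ∈ A, a * c = c * a) (hc : Fx V R c) {L : Subgroup X} (hL : Mx V A L)
    {w : X} (hw : w ∈ V ⊓ centralizer (L : Set X)) (hcw : c * w ≠ w * c) : ⁅A, R⁆ ≤ L := by
  have h1 : ⁅V, zpowers c⁆ ≤ V := le_normalizer_iff_commutator_le_left.1 (zpowers_le.2 (h.nPV hcP))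
  have := ab_of_le h1
  have h2 := frob (B := A) (Z := R) (W := ⁅V, zpowers c⁆) h.pr hRA (le_normalizer_commutator (hA.trans h.nPV) (nm_zp hcA))
    (le_normalizer_commutator h.nRV (nm_zp hc.1))
    ((h.cPV.coprime_dvd_left (card_dvd_of_le hA)).coprime_dvd_right (card_dvd_of_le h1))
    (h.cRP.coprime_dvd_right (card_dvd_of_le hA))
    fun u hu e => hc.dis (h.nPV hcP) (h.cPV.coprime_dvd_left (card_dvd_of_le (zpowers_le.2 hcP))) hu e
  have h3 : ⁅w, c⁆ ∈ ⁅V, zpowers c⁆ := commutator_mem_commutator hw.1 (mem_zpowers c)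
  refine fun a ha => hL.mem (h1 h3) (fun e => hcw (commutatorElement_eq_one_iff_mul_comm.1 e).symm) (fun l hl => ?_)
    (le_normalizer_iff_commutator_le_left.1 hRA ha) (h2 ha _ h3).symm
  have e1 : Commute l w := hw.2 l hl
  have e2 : Commute l c := hcA l (hL.1 hl)
  exact ((e1.mul_right e2).mul_right e1.inv_right).mul_right e2.inv_right

/-- the stabiliser of a component has no fixed points on it -/
theorem stab_fpf [V.Normal] [IsMulCommutative V] (hy : Hy V F) (cF : (Nat.card F).Coprime (Nat.card V))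
    (cA : (Nat.card A).Coprime (Nat.card V)) (hA : ∀ a ∈ A, ∀ b ∈ A, a * b = b * a) (hFA : F ≤ normalizer (A : Set X))
    (hK : Mx V A K) {w : X} (hw : w ∈ V ⊓ centralizer (K : Set X))
    (e : ∀ f ∈ F, f ∈ normalizer (K : Set X) → f * w = w * f) : w = 1 := by
  have cK : (Nat.card K).Coprime (Nat.card V) := cA.coprime_dvd_left (card_dvd_of_le hK.1)
  refine dis (nm_top K) cK (trick (S := normalizer (K : Set X)) hy.nm hy.fpf cF hw.1 (fun f hf hn => by simp [e f hf hn])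
    fun f hf hn => ?_) hw.2
  have hL : Mx V A (cj f⁻¹ K) := hK.cj (inv_mem (hFA hf))
  have h1 : f * w * f⁻¹ ∈ V ⊓ centralizer ((cj f⁻¹ K : Subgroup X) : Set X) := ⟨conj_mem (hy.nm hf) hw.1, fun y hy => by
    calc y * (f * w * f⁻¹) = f * (f⁻¹ * y * f⁻¹⁻¹ * w) * f⁻¹ := by group
      _ = _ := by rw [hw.2 _ (mem_cj.1 hy)]; group⟩
  have := ab_of_le (inf_le_left : V ⊓ centralizer ((cj f⁻¹ K : Subgroup X) : Set X) ≤ V)
  obtain ⟨s, hs, z, hz, e1⟩ := coprime_exists_commutator_mul_centralizer K _ (nm_inf (nm_top K) (nm_cen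
    (le_trans (show K ≤ centralizer ((cj f⁻¹ K : Subgroup X) : Set X) from fun a ha y hy => hA y (hL.1 hy) a (hK.1 ha))
      (centralizer_le_normalizer _))))
    (cK.coprime_dvd_right (card_dvd_of_le inf_le_left)) (Or.inr (isSolvable_of_le inf_le_left (have := nil_ab V; inferInstance))) _ h1
  have h2 : z = 1 := by
    by_contra hz1
    have h3 := hK.eq (L := cj f⁻¹ K) (fun a ha => hL.mem hz.1.1 hz1 hz.1.2 (hK.1 ha) (hz.2 a ha)) hL.1 hL.2.1
    exact hn (inv_mem_iff.1 (mem_normalizer_iff.2 fun y => by rw [← mem_cj, ← h3]))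
  rw [e1, h2, mul_one]
  exact commutator_mono inf_le_left le_rfl hs

theorem decomp (h : St V P F R) (hRK : R ≤ Tr A K) (hK : K ≤ A) (hFA : F ≤ normalizer (A : Set X)) {f : X} (hf : f ∈ F)
    (hn : f ∈ normalizer (K : Set X)) :
    ∃ s ∈ F ⊓ Tr A K, ∃ z ∈ F ⊓ centralizer (R : Set X), z ∈ normalizer (K : Set X) ∧ f = s * z := by
  have n1 : R ≤ normalizer ((F ⊓ normalizer (K : Set X) : Subgroup X) : Set X) := nm_inf h.nRF (nm_nm (hRK.trans (Tr_le hK)))
  obtain ⟨s, hs, z, hz, e⟩ := coprime_exists_commutator_mul_centralizer R _ n1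
    (h.cRF.coprime_dvd_right (card_dvd_of_le inf_le_left)) (Or.inl (solv_prime h.pr)) f ⟨hf, hn⟩
  refine ⟨s, ⟨(le_normalizer_iff_commutator_le_left.1 n1 hs).1, ?_⟩, z, ⟨hz.1.1, hz.2⟩, hz.1.2, e⟩
  exact ((commutator_mono le_rfl hRK).trans (le_normalizer_iff_commutator_le_right.1
    (nm_Tr (inf_le_left.trans hFA) inf_le_right))) hs

/-- the case where `C_F(R)` fixes the component -/
theorem caseI (hV : IsMinNormal V) [IsMulCommutative V] (hT : V ⊔ P ⊔ F ⊔ R = ⊤) (h : St V P F R)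
    (h0 : P ⊓ centralizer (V : Set X) = ⊥) (hP : ∀ g ∈ P, (∀ a ∈ F, a * g = g * a) → g = 1)
    {c : X} (hcP : c ∈ P) (hc : Fx V R c) (hc1 : c ≠ 1) (hK : Mx V (P ⊓ centralizer (P : Set X)) K)
    (hRK : R ≤ Tr (P ⊓ centralizer (P : Set X)) K)
    (hZ : F ⊓ centralizer (R : Set X) ≤ Tr (P ⊓ centralizer (P : Set X)) K) : False := by
  have hVn := hV.normal
  set A := P ⊓ centralizer (P : Set X) with hAd
  have : IsMulCommutative A := ⟨⟨fun a b => Subtype.ext (b.2.2 _ a.2.1)⟩⟩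
  have hZ' : normalizer (P : Set X) ≤ normalizer (A : Set X) := nm_inf le_rfl (nm_cen le_rfl)
  have hFA := h.nFP.trans hZ'
  have hRA := h.nRP.trans hZ'
  have hRn := hRK.trans (Tr_le hK.1)
  have hm : ∀ f ∈ F, Mx V A (cj f K) := fun f hf => hK.cj (hFA hf)
  have n2 : ∀ f ∈ F, f ∉ normalizer (K : Set X) → c ∈ Nk V P (cj f K) := fun f hf hn => ⟨hcP, fun u hu => by
    by_contra hcu
    have h1 := (le_Tr hRA (comm_le h inf_le_left hRA hcP (fun a ha => (ha.2 c hcP).symm) hc (hm f hf) hu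
      fun e => hcu e.symm)).trans (Tr_le (hm f hf).1)
    obtain ⟨s, hs, e⟩ := coprime_coset_centralizer R (F ⊓ normalizer (K : Set X)) (nm_inf h.nRF (nm_nm hRn))
      (h.cRF.coprime_dvd_right (card_dvd_of_le inf_le_left)) (Or.inl (solv_prime h.pr)) f⁻¹ fun a ha => mem_inf.2 ⟨by
        simpa [mul_assoc] using mul_mem hf (conj_mem (h.nRF ha) (inv_mem hf)), by
        rw [inv_inv]
        exact mul_mem (mem_nm_cj.1 (h1 ha)) (inv_mem (hRn ha))⟩
    have h2 := Tr_le hK.1 (hZ (mem_inf.2 ⟨mul_mem (inv_mem hf) (mem_inf.1 hs).1, e⟩))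
    exact hn (inv_mem_iff.1 ((mul_mem_cancel_right (mem_inf.1 hs).2).1 h2))⟩
  have hL : ∀ y, y ∈ P ⊓ ⨅ f ∈ F, ⨅ _ : f ∉ normalizer (K : Set X), Nk V P (cj f K) ↔
      y ∈ P ∧ ∀ f ∈ F, f ∉ normalizer (K : Set X) → y ∈ Nk V P (cj f K) := fun y => by
    simp only [mem_inf, Subgroup.mem_iInf]
  obtain ⟨⟨y, hy⟩, hy1⟩ := ne_bot_iff_exists_ne_one.1 (inf_centralizer_ne_bot_of_isNilpotent h.nil
    (N := P ⊓ ⨅ f ∈ F, ⨅ _ : f ∉ normalizer (K : Set X), Nk V P (cj f K)) inf_le_left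
    (nm_of_conj fun g hg y hy => (hL _).2 ⟨conj_mem (le_normalizer hg) hy.1, fun f hf hn => conj_mem
      ((nm_inf le_normalizer (nm_cen (nm_inf (nm_top _) (nm_cen ((le_centralizer_iff.1 ((hm f hf).1.trans inf_le_right)).trans
        (centralizer_le_normalizer _))))) : P ≤ _) hg) (((hL _).1 hy).2 f hf hn)⟩)
    fun e => hc1 ((eq_bot_iff_forall _).1 e c ((hL _).2 ⟨hcP, n2⟩)))
  have hyA : y ∈ A := ⟨hy.1.1, hy.2⟩
  have h1 : ∀ f ∈ F, f ∉ normalizer (K : Set X) → y ∈ cj f K := fun f hf hn => by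
    obtain ⟨⟨w, hw⟩, hw1⟩ := ne_bot_iff_exists_ne_one.1 (hm f hf).2.1
    exact (hm f hf).mem hw.1 (fun e => hw1 (Subtype.ext e)) hw.2 hyA ((((hL _).1 hy.1).2 f hf hn).2 w hw).symm
  have h2 : y ∈ K := trick (S := normalizer (K : Set X)) hFA (fun g hg => hP g hg.1)
    (h.cFP.coprime_dvd_right (card_dvd_of_le inf_le_left)) hyA (fun f hf hn => by
      obtain ⟨s, hs, z, hz, _, rfl⟩ := decomp h hRK hK.1 hFA hf hn
      exact (mul_mem hs.2 (hZ hz)).2 y hyA) h1
  have hL' : ∀ y, y ∈ A ⊓ ⨅ f ∈ F, cj f K ↔ y ∈ A ∧ ∀ f ∈ F, f * y * f⁻¹ ∈ K := fun y => by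
    simp only [mem_inf, Subgroup.mem_iInf, mem_cj]
  have h3 : (V ⊓ centralizer ((A ⊓ ⨅ f ∈ F, cj f K : Subgroup X) : Set X)).Normal :=
    normalizer_eq_top_iff.1 (top_le_iff.1 (hT ▸ sup_le (sup_le (sup_le
      ((le_centralizer_of_le_of_isMulCommutative inf_le_left).trans (centralizer_le_normalizer _))
      (nm_inf (nm_top _) (nm_cen ((le_centralizer_iff.1 (inf_le_left.trans inf_le_right)).trans (centralizer_le_normalizer _)))))
      (nm_inf (nm_top _) (nm_cen (nm_of_conj fun g hg x hx => (hL' _).2 ⟨conj_mem (hFA hg) hx.1, fun f hf => by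
        convert ((hL' _).1 hx).2 _ (mul_mem hf hg) using 1
        group⟩))))
      (nm_inf (nm_top _) (nm_cen (nm_of_conj fun g hg x hx => (hL' _).2 ⟨conj_mem (hRA hg) hx.1, fun f hf => by
        convert conj_mem (hRn hg) (((hL' _).1 hx).2 _ (conj_mem (inv_mem (h.nRF hg)) hf)) using 1
        group⟩)))))
  have h4 := (hV.eq_bot_or_eq _ h3 inf_le_left).resolve_left fun e => hK.2.1 (le_bot_iff.1 (e ▸ inf_le_inf_left V
    (centralizer_le fun x hx => by simpa using ((hL' _).1 hx).2 1 (one_mem _))))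
  refine hy1 (Subtype.ext ((eq_bot_iff_forall _).1 h0 y ⟨hy.1.1, fun v hv => ((h4.ge hv).2 y ((hL' _).2 ⟨hyA, fun f hf => ?_⟩)).symm⟩))
  by_cases hn : f ∈ normalizer (K : Set X)
  exacts [conj_mem hn h2, h1 f hf hn]

/-- otherwise the part of the stabiliser acting trivially on `A / K` has no fixed points -/
theorem caseII [V.Normal] [IsMulCommutative V] [IsMulCommutative A] (h : St V P F R) (hA : A ≤ P) (hAP : P ≤ centralizer (A : Set X))
    (hFA : F ≤ normalizer (A : Set X)) (hK : Mx V A K) (hRK : R ≤ Tr A K)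
    (hZ : F ⊓ centralizer (R : Set X) = ⊥ ∨ ¬ F ⊓ centralizer (R : Set X) ≤ Tr A K) :
    St (V ⊓ centralizer (K : Set X)) P (F ⊓ Tr A K) R := by
  have hRn := hRK.trans (Tr_le hK.1)
  have hRA : R ≤ normalizer (A : Set X) := fun a ha => (hRK ha).1
  have h1 : F ⊓ Tr A K ⊓ centralizer (R : Set X) = ⊥ := by
    rw [inf_right_comm]
    rcases hZ with e | e
    · rw [e, bot_inf_eq]
    rcases h.alt with e' | e'
    · rw [e', bot_inf_eq]
    refine (eq_bot_iff_forall _).2 fun x hx => by_contra fun hx1 => e ?_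
    have := Fact.mk e'.1
    have h2 := (eq_bot_or_eq_top_of_prime_card ((Tr A K).subgroupOf (F ⊓ centralizer (R : Set X)))).resolve_left fun h =>
      hx1 (congrArg Subtype.val ((eq_bot_iff_forall _).1 h ⟨x, hx.1⟩ hx.2))
    exact fun b hb => h2.ge (mem_top (⟨b, hb⟩ : ↥(F ⊓ centralizer (R : Set X))))
  have cV : ∀ {n : ℕ}, n.Coprime (Nat.card V) → n.Coprime (Nat.card (V ⊓ centralizer (K : Set X) : Subgroup X)) :=
    fun e => e.coprime_dvd_right (card_dvd_of_le inf_le_left)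
  have dF : Nat.card (F ⊓ Tr A K : Subgroup X) ∣ Nat.card F := card_dvd_of_le inf_le_left
  have cA := h.cPV.coprime_dvd_left (card_dvd_of_le hA)
  have hA' : ∀ a ∈ A, ∀ b ∈ A, a * b = b * a := fun a ha b hb => hAP (hA hb) a ha
  refine ⟨⟨nm_inf (nm_top _) (nm_cen (inf_le_right.trans (Tr_le hK.1))), isNilpotent_of_le h.hy.nil inf_le_left, fun w hw e => ?_⟩,
    nm_inf (nm_top _) (nm_cen ((hAP.trans (centralizer_le hK.1)).trans (centralizer_le_normalizer _))),
    nm_inf (nm_top _) (nm_cen hRn), inf_le_left.trans h.nFP, h.nRP, nm_inf h.nRF (hRK.trans le_normalizer),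
    isSolvable_of_le inf_le_left h.sol, h.nil, h.pr, cV h.cPV, cV (h.cFV.coprime_dvd_left dF), cV h.cRV,
    h.cFP.coprime_dvd_left dF, h.cRP, h.cRF.coprime_dvd_right dF, Or.inl h1⟩
  by_contra hw1
  have h2 : ∀ u ∈ V ⊓ centralizer (K : Set X) ⊓ centralizer ((F ⊓ Tr A K : Subgroup X) : Set X),
      (∀ z ∈ F ⊓ centralizer (R : Set X), z ∈ normalizer (K : Set X) → z * u = u * z) → u = 1 := fun u hu e' =>
    stab_fpf h.hy h.cFV cA hA' hFA hK hu.1 fun f hf hn => by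
      obtain ⟨s, hs, z, hz, hz', rfl⟩ := decomp h hRK hK.1 hFA hf hn
      rw [mul_assoc, e' z hz hz', ← mul_assoc, hu.2 s hs, mul_assoc]
  obtain ⟨z, hz, hzK, hz1⟩ : ∃ z ∈ F ⊓ centralizer (R : Set X), z ∈ normalizer (K : Set X) ∧ z ≠ 1 := by
    by_contra! hcon
    exact hw1 (h2 w ⟨hw, e⟩ fun z hz hn => by simp [hcon z hz hn])
  have hp := (h.alt.resolve_left fun e => hz1 ((eq_bot_iff_forall _).1 e z hz)).1
  have hZK : F ⊓ centralizer (R : Set X) ≤ normalizer (K : Set X) := by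
    have := Fact.mk hp
    have h2 := (eq_bot_or_eq_top_of_prime_card ((normalizer (K : Set X)).subgroupOf (F ⊓ centralizer (R : Set X)))).resolve_left
      fun h => hz1 (congrArg Subtype.val ((eq_bot_iff_forall _).1 h ⟨z, hz⟩ hzK))
    exact fun b hb => h2.ge (mem_top (⟨b, hb⟩ : ↥(F ⊓ centralizer (R : Set X))))
  have hW : V ⊓ centralizer (K : Set X) ⊓ centralizer ((F ⊓ Tr A K : Subgroup X) : Set X) ≤ V := inf_le_left.trans inf_le_left
  have := ab_of_le hW
  have h3 := frob (B := A) (W := V ⊓ centralizer (K : Set X) ⊓ centralizer ((F ⊓ Tr A K : Subgroup X) : Set X)) hp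
    (inf_le_left.trans hFA) (nm_of_conj fun a ha u hu => ⟨conj_mem (nm_inf (nm_top A) (nm_cen
      ((le_centralizer_of_le_of_isMulCommutative hK.1).trans (centralizer_le_normalizer _))) ha) hu.1, fun f hf => by
      have e1 : f * a * f⁻¹ * a⁻¹ * u = u * (f * a * f⁻¹ * a⁻¹) := hu.1.2 _ (hf.2.2 a ha)
      have e2 : f⁻¹ * u = u * f⁻¹ := hu.2 _ (inv_mem hf)
      have e3 : f * a * f⁻¹ * a⁻¹ * a = a * (f * a * f⁻¹ * a⁻¹) := hA' _ (hK.1 (hf.2.2 a ha)) a ha
      calc f * (a * u * a⁻¹) = f * a * f⁻¹ * a⁻¹ * a * u * (f * a * f⁻¹ * a⁻¹ * a)⁻¹ * f := by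
            rw [show f * a * f⁻¹ * a⁻¹ * a * u * (f * a * f⁻¹ * a⁻¹ * a)⁻¹ * f = f * a * (f⁻¹ * u) * f * a⁻¹ by group, e2]; group
        _ = _ := by
          rw [e3, mul_assoc a, e1]
          group⟩)
    (nm_inf (nm_inf (nm_top _) (nm_cen hZK)) (nm_cen (nm_inf (inf_le_left.trans le_normalizer) (nm_Tr (inf_le_left.trans hFA) hZK))))
    (cA.coprime_dvd_right (card_dvd_of_le hW))
    ((h.cFP.coprime_dvd_left (card_dvd_of_le inf_le_left)).coprime_dvd_right (card_dvd_of_le hA))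
    fun u hu e' => h2 u hu fun z hz _ => (e' z hz).symm
  refine hz1 ((eq_bot_iff_forall _).1 h1 z ⟨⟨hz.1, le_Tr (inf_le_left.trans hFA) (fun a ha => hK.mem hw.1 hw1 hw.2
    (le_normalizer_iff_commutator_le_left.1 (inf_le_left.trans hFA) ha) (h3 ha w ⟨hw, e⟩).symm) hz⟩, hz.2⟩)

/-- the primitive case -/
theorem prim [V.Normal] [IsMulCommutative V] (h : St V P F R) (h0 : P ⊓ centralizer (V : Set X) = ⊥)
    (hZ : F ⊓ centralizer (R : Set X) = ⊥) (hF : F ≤ centralizer ((P ⊓ centralizer (P : Set X) : Subgroup X) : Set X))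
    (hR : R ≤ centralizer ((P ⊓ centralizer (P : Set X) : Subgroup X) : Set X))
    (ih : ∀ P' < P, F ≤ normalizer (P' : Set X) → R ≤ normalizer (P' : Set X) → ∀ c ∈ P', Fx V R c → ∀ u ∈ V, c * u = u * c)
    {c : X} (hcP : c ∈ P) (hc : Fx V R c) : c = 1 := by
  set A := P ⊓ centralizer (P : Set X) with hAd
  have h1 : ∀ c ∈ A, Fx V R c → c = 1 := fun c hcA hc => by
    have n1 := zpowers_le.2 (h.nPV hcA.1)
    have hU : Fr ⁅V, zpowers c⁆ F R := Fr.mono ⟨h.hy, h.nRV, h.nRF, fun a ha a1 => (eq_bot_iff_forall _).2 fun x hx =>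
      (eq_bot_iff_forall _).1 hZ x ⟨hx.1, prime_cen h.pr ha a1 (mem_centralizer_singleton_iff.1 hx.2).symm⟩⟩
      (le_normalizer_iff_commutator_le_left.1 n1) (le_normalizer_commutator h.hy.nm (nm_zp fun a ha => (hF ha c hcA).symm))
      (le_normalizer_commutator h.nRV (nm_zp hc.1))
    have h2 : ⁅V, zpowers c⁆ = ⊥ := by
      by_contra hne
      obtain ⟨u, hu, u1, e⟩ := hU.exists_fix hne
      exact u1 (hc.dis (h.nPV hcA.1) (h.cPV.coprime_dvd_left (card_dvd_of_le (zpowers_le.2 hcA.1))) hu e)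
    exact (eq_bot_iff_forall _).1 h0 c ⟨hcA.1, fun v hv =>
      (commutator_eq_bot_iff_le_centralizer.1 h2 hv c (mem_zpowers c)).symm⟩
  have hn : ∀ B : Subgroup X, B ≤ normalizer (P : Set X) → B ≤ normalizer ((P ⊓ Tr P A : Subgroup X) : Set X) :=
    fun B e => nm_inf e (nm_Tr e (nm_inf e (nm_cen e)))
  have h2 : c ∈ centralizer ((P ⊓ Tr P A : Subgroup X) : Set X) := by
    rw [← coprime_commutator_sup_centralizer R _ (hn R h.nRP) (h.cRP.coprime_dvd_right (card_dvd_of_le inf_le_left))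
      (Or.inl (solv_prime h.pr))]
    refine fun x hx => mem_centralizer_singleton_iff.1 ((sup_le (commutator_le.2 fun d hd r hr => ?_) fun d hd => ?_ :
      _ ≤ centralizer {c}) hx)
    · have e1 : d * c * d⁻¹ * c⁻¹ ∈ A := hd.2.2 c hcP
      have e2 : d * (d * c * d⁻¹ * c⁻¹) = d * c * d⁻¹ * c⁻¹ * d := e1.2 d hd.1
      have e3 : d * c * d⁻¹ * c⁻¹ * r = r * (d * c * d⁻¹ * c⁻¹) := hR hr _ e1
      have e4 : r * c = c * r := hc.1 r hr
      have e5 : c * (d * c * d⁻¹ * c⁻¹) = d * c * d⁻¹ * c⁻¹ * c := e1.2 c hcP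
      rw [mem_centralizer_singleton_iff, commutatorElement_def]
      have e6 : d * c = (d * c * d⁻¹ * c⁻¹) * c * d := by group
      generalize d * c * d⁻¹ * c⁻¹ = z at e2 e3 e5 e6
      have e7 : d⁻¹ * c = z⁻¹ * c * d⁻¹ := by
        calc d⁻¹ * c = d⁻¹ * z⁻¹ * (z * c * d) * d⁻¹ := by group
          _ = (z * d)⁻¹ * (d * c) * d⁻¹ := by rw [e6]; group
          _ = _ := by rw [← e2]; group
      calc d * r * d⁻¹ * r⁻¹ * c = d * r * d⁻¹ * r⁻¹ * (c * r) * r⁻¹ := by group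
        _ = d * r * (d⁻¹ * c) * r⁻¹ := by rw [← e4]; group
        _ = d * (z⁻¹ * (z * r) * z⁻¹) * c * d⁻¹ * r⁻¹ := by rw [e7]; group
        _ = d * z⁻¹ * (r * c) * d⁻¹ * r⁻¹ := by rw [e3]; group
        _ = z⁻¹ * (z * d) * z⁻¹ * c * r * d⁻¹ * r⁻¹ := by rw [e4]; group
        _ = z⁻¹ * (d * c) * r * d⁻¹ * r⁻¹ := by rw [← e2]; group
        _ = _ := by rw [e6]; group
    · have e := h1 _ (hd.1.2.2 c hcP) ⟨fun r hr => (hR hr _ (hd.1.2.2 c hcP)).symm, fun u hu e => by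
        have e1 : c * (d⁻¹ * u * d) = d⁻¹ * u * d * c := hc.2 _ (by simpa using conj_mem (inv_mem (h.nPV hd.1.1)) hu) fun a ha => by
          have k1 : Commute a d := hd.2 a ha
          have k2 : Commute a u := (e a ha).symm
          exact ((k1.inv_right.mul_right k2).mul_right k1).symm
        have e2 : c⁻¹ * u = u * c⁻¹ := (Commute.inv_left (hc.2 u hu e : Commute c u))
        calc d * c * d⁻¹ * c⁻¹ * u = d * (c * (d⁻¹ * u * d)) * d⁻¹ * c⁻¹ := by rw [mul_assoc _ c⁻¹, e2]; group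
          _ = _ := by rw [e1]; group⟩
      rwa [mul_inv_eq_one, mul_inv_eq_iff_eq_mul, ← mem_centralizer_singleton_iff] at e
  rcases (inf_le_left : P ⊓ centralizer ((P ⊓ Tr P A : Subgroup X) : Set X) ≤ P).lt_or_eq with hlt | e
  · exact (eq_bot_iff_forall _).1 h0 c ⟨hcP, fun v hv => (ih _ hlt (nm_inf h.nFP (nm_cen (hn F h.nFP)))
      (nm_inf h.nRP (nm_cen (hn R h.nRP))) c ⟨hcP, h2⟩ hc v hv).symm⟩
  · exact h1 c (le_of_Tr h.nil (le_inf inf_le_left (le_centralizer_iff.1 (inf_eq_left.1 e))) hcP) hc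

theorem St.monoP (h : St V P F R) {P' : Subgroup X} (hle : P' ≤ P) (h1 : F ≤ normalizer (P' : Set X))
    (h2 : R ≤ normalizer (P' : Set X)) : St V P' F R :=
  ⟨h.hy, hle.trans h.nPV, h.nRV, h1, h2, h.nRF, h.sol, isNilpotent_of_le h.nil hle, h.pr,
    h.cPV.coprime_dvd_left (card_dvd_of_le hle), h.cFV, h.cRV, h.cFP.coprime_dvd_right (card_dvd_of_le hle),
    h.cRP.coprime_dvd_right (card_dvd_of_le hle), h.cRF, h.alt.imp_right fun e => ⟨e.1, fun g hg => e.2 g (hle hg)⟩⟩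

theorem core (hV : IsMinNormal V) [IsMulCommutative V] (hT : V ⊔ P ⊔ F ⊔ R = ⊤) (h : St V P F R)
    (h0 : P ⊓ centralizer (V : Set X) = ⊥)
    (ih : ∀ V' P' F' : Subgroup X, Nat.card V' * Nat.card P' * Nat.card F' < Nat.card V * Nat.card P * Nat.card F →
      St V' P' F' R → ∀ c ∈ P', Fx V' R c → ∀ u ∈ V', c * u = u * c)
    {c : X} (hcP : c ∈ P) (hc : Fx V R c) : c = 1 := by
  classical
  by_contra hc1
  have hVn := hV.normal
  set A := P ⊓ centralizer (P : Set X) with hAd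
  have : IsMulCommutative A := ⟨⟨fun a b => Subtype.ext (b.2.2 _ a.2.1)⟩⟩
  have hZ : normalizer (P : Set X) ≤ normalizer (A : Set X) := nm_inf le_rfl (nm_cen le_rfl)
  have nrm : ∀ L ≤ V, normalizer (P : Set X) ≤ normalizer (L : Set X) → L.Normal := fun L h1 h2 =>
    normalizer_eq_top_iff.1 (top_le_iff.1 (hT ▸ sup_le (sup_le (sup_le ((le_centralizer_of_le_of_isMulCommutative h1).trans
      (centralizer_le_normalizer _)) (le_normalizer.trans h2)) (h.nFP.trans h2)) (h.nRP.trans h2)))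
  obtain ⟨K, hK, w, hw, hcw⟩ : ∃ K, Mx V A K ∧ ∃ w ∈ V ⊓ centralizer (K : Set X), c * w ≠ w * c := by
    by_contra! hcon
    let S := closure {w | ∃ K, Mx V A K ∧ w ∈ V ⊓ centralizer (K : Set X)}
    have hS : S ≤ V := (closure_le _).2 fun w ⟨_, _, hw⟩ => hw.1
    obtain ⟨K, hK, hmax⟩ := Set.exists_max_image {K : Subgroup X | K ≤ A ∧
      V ⊓ centralizer (K : Set X) ≠ ⊥} (fun K => Nat.card K) (Set.toFinite _)
      ⟨⊥, bot_le, by rw [inf_eq_left.2 (le_centralizer_iff.1 bot_le)]; exact hV.ne_bot⟩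
    have h1 : Mx V A K := ⟨hK.1, hK.2, fun L h1 h2 => hmax L ⟨h1, h2⟩⟩
    have h2 := (hV.eq_bot_or_eq S (nrm S hS (nm_of_conj fun a ha => (closure_le (cj a S)).2 fun w ⟨K, hK, hw⟩ =>
      mem_cj.2 <| Subgroup.subset_closure ⟨_, hK.cj (inv_mem (hZ ha)), hVn.conj_mem w hw.1 a, fun y hy => by
        calc y * (a * w * a⁻¹) = a * (a⁻¹ * y * a⁻¹⁻¹ * w) * a⁻¹ := by group
          _ = _ := by rw [hw.2 _ (mem_cj.1 hy)]; group⟩)) hS).resolve_left fun e =>
      hK.2 (le_bot_iff.1 (le_trans (show _ ≤ S from fun w hw => Subgroup.subset_closure ⟨K, h1, hw⟩) e.le))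
    exact hc1 ((eq_bot_iff_forall _).1 h0 c ⟨hcP, fun v hv => mem_centralizer_singleton_iff.1
      ((show S ≤ centralizer {c} from (closure_le _).2 fun w ⟨K, hK, hw⟩ =>
        mem_centralizer_singleton_iff.2 (hcon K hK w hw).symm) (h2.ge hv))⟩)
  have hRK : R ≤ Tr A K := le_Tr (h.nRP.trans hZ)
    (comm_le h inf_le_left (h.nRP.trans hZ) hcP (fun a ha => (ha.2 c hcP).symm) hc hK hw hcw)
  by_cases hI : F ⊓ centralizer (R : Set X) = ⊥ ∨ ¬ F ⊓ centralizer (R : Set X) ≤ Tr A K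
  swap
  · push Not at hI
    exact caseI hV hT h h0 (h.alt.resolve_left hI.1).2 hcP hc hc1 hK hRK hI.2
  have h1 := caseII h inf_le_left (le_centralizer_iff.1 inf_le_right) (h.nFP.trans hZ) hK hRK hI
  have h2 : ¬ Nat.card (V ⊓ centralizer (K : Set X) : Subgroup X) * Nat.card P * Nat.card (F ⊓ Tr A K : Subgroup X) <
      Nat.card V * Nat.card P * Nat.card F := fun e => hcw (ih _ _ _ e h1 c hcP ⟨hc.1, fun u hu => hc.2 u hu.1⟩ w hw)
  have h3 : V ⊓ centralizer (K : Set X) = V := by_contra fun e => h2 (Nat.mul_lt_mul_of_lt_of_le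
    (Nat.mul_lt_mul_of_pos_right (card_lt_of_lt (lt_of_le_of_ne inf_le_left e)) Nat.card_pos) (card_le_of_le inf_le_left) Nat.card_pos)
  have h4 : F ⊓ Tr A K = F := by_contra fun e => h2 (Nat.mul_lt_mul_of_le_of_lt
    (Nat.mul_le_mul_right _ (card_le_of_le inf_le_left)) (card_lt_of_lt (lt_of_le_of_ne inf_le_left e))
    (Nat.mul_pos Nat.card_pos Nat.card_pos))
  have h5 : K = ⊥ := le_bot_iff.1 (h0 ▸ le_inf (hK.1.trans inf_le_left) (le_centralizer_iff.1 (inf_eq_left.1 h3)))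
  have h6 : Tr A K ≤ centralizer (A : Set X) := fun x hx a ha => by
    have := hx.2 a ha
    rw [h5, mem_bot, mul_inv_eq_one, mul_inv_eq_iff_eq_mul] at this
    exact this.symm
  refine hc1 (prim h h0 (hI.resolve_right fun e => e (inf_le_left.trans (inf_eq_left.1 h4))) ((inf_eq_left.1 h4).trans h6)
    (hRK.trans h6) (fun P' hlt n1 n2 => ih V P' F ?_ (h.monoP hlt.le n1 n2)) hcP hc)
  exact Nat.mul_lt_mul_of_pos_right (Nat.mul_lt_mul_of_pos_left (card_lt_of_lt hlt) Nat.card_pos) Nat.card_pos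

end CL.XF
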