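import Mathlib
import Cfsg.Agent.FGS.XF.Core

/-!
# An element of `C_P(R)` centralising `C_V(R)` centralises `V`
-/

set_option autoImplicit false
set_option linter.unusedSectionVars false
set_option linter.unusedVariables false

open Subgroup
open scoped Pointwise commutatorElement

namespace CL.XF

open CL.Misc CL.FroA CL.KH

section
variable {X : Type*} [Group X] [Finite X] {V P F R : Subgroup X}

theorem St.monoV (h : St V P F R) {V' : Subgroup X} (hle : V' ≤ V) (h0 : P ≤ normalizer (V' : Set X))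
    (h1 : F ≤ normalizer (V' : Set X)) (h2 : R ≤ normalizer (V' : Set X)) : St V' P F R :=
  ⟨h.hy.mono hle h1, h0, h2, h.nFP, h.nRP, h.nRF, isSolvable_of_le hle h.sol, h.nil, h.pr,
    h.cPV.coprime_dvd_right (card_dvd_of_le hle), h.cFV.coprime_dvd_right (card_dvd_of_le hle),
    h.cRV.coprime_dvd_right (card_dvd_of_le hle), h.cFP, h.cRP, h.cRF, h.alt⟩

theorem cen_sub {Y : Subgroup X} (hR : R ≤ Y) : F.subgroupOf Y ⊓ centralizer ((R.subgroupOf Y : Subgroup Y) : Set Y) =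
    (F ⊓ centralizer (R : Set X)).subgroupOf Y := by
  ext x
  exact and_congr_right fun _ => ⟨fun e a ha => congrArg Subtype.val (e ⟨a, hR ha⟩ ha), fun e a ha => Subtype.ext (e a ha)⟩

theorem St.sub (h : St V P F R) {Y : Subgroup X} (hV : V ≤ Y) (hP : P ≤ Y) (hF : F ≤ Y) (hR : R ≤ Y) :
    St (V.subgroupOf Y) (P.subgroupOf Y) (F.subgroupOf Y) (R.subgroupOf Y) := by
  refine ⟨⟨nm_sub h.hy.nm Y, isNilpotent_subgroupOf h.hy.nil _, fun g hg e =>
    Subtype.ext (h.hy.fpf g hg fun a ha => congrArg Subtype.val (e ⟨a, hF ha⟩ ha))⟩, nm_sub h.nPV Y, nm_sub h.nRV Y,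
    nm_sub h.nFP Y, nm_sub h.nRP Y, nm_sub h.nRF Y, isSolvable_subgroupOf h.sol _, isNilpotent_subgroupOf h.nil _,
    ?_, ?_, ?_, ?_, ?_, ?_, ?_, ?_⟩
  any_goals simp only [card_subgroupOf_of_le hV, card_subgroupOf_of_le hP, card_subgroupOf_of_le hF, card_subgroupOf_of_le hR]
  exacts [h.pr, h.cPV, h.cFV, h.cRV, h.cFP, h.cRP, h.cRF, by
    rw [cen_sub hR, card_subgroupOf_of_le (inf_le_left.trans hF)]
    exact h.alt.imp (fun e => by rw [e, bot_subgroupOf]) fun e => ⟨e.1, fun g hg e' =>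
      Subtype.ext (e.2 g hg fun a ha => congrArg Subtype.val (e' ⟨a, hF ha⟩ ha))⟩]

theorem hy_map (h : Hy V F) (M : Subgroup X) [M.Normal] :
    Hy (V.map (QuotientGroup.mk' M)) (F.map (QuotientGroup.mk' M)) := by
  have := h.nil
  refine ⟨map_le_normalizer_map _ h.nm, isNilpotent_map _ _, ?_⟩
  rintro _ ⟨g, hg, rfl⟩ e
  refine (QuotientGroup.eq_one_iff g).2 (mem_inf.1 ((h.mono (G' := V ⊓ M) inf_le_left (nm_inf h.nm (nm_top _))).cov.fix h
    inf_le_left hg fun a ha => mem_inf.2 ⟨?_, mk_comm_iff.1 (e _ ⟨a, ha, rfl⟩).symm⟩)).2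
  simpa [mul_assoc] using mul_mem hg (conj_mem (h.nm ha) (inv_mem hg))

theorem card_map_co {H M : Subgroup X} [M.Normal] (h : (Nat.card H).Coprime (Nat.card M)) :
    Nat.card (H.map (QuotientGroup.mk' M)) = Nat.card H := by
  rw [← card_map_mk'_mul H M, (disjoint_of_coprime_natCard h).eq_bot, card_bot, mul_one]

theorem cen_map (hn : R ≤ normalizer (F : Set X)) {M : Subgroup X} [M.Normal] (h : (Nat.card F).Coprime (Nat.card M)) :
    F.map (QuotientGroup.mk' M) ⊓ centralizer ((R.map (QuotientGroup.mk' M) : Subgroup (X ⧸ M)) : Set (X ⧸ M)) =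
      (F ⊓ centralizer (R : Set X)).map (QuotientGroup.mk' M) := by
  refine le_antisymm ?_ (le_inf (map_mono inf_le_left) ?_)
  · rintro _ ⟨⟨g, hg, rfl⟩, e⟩
    refine ⟨g, ⟨hg, fun a ha => ?_⟩, rfl⟩
    have : a * g * a⁻¹ * g⁻¹ ∈ F ⊓ M := mem_inf.2 ⟨mul_mem (conj_mem (hn ha) hg) (inv_mem hg), mk_comm_iff.1 (e _ ⟨a, ha, rfl⟩)⟩
    rwa [(disjoint_of_coprime_natCard h).eq_bot, mem_bot, mul_inv_eq_one, mul_inv_eq_iff_eq_mul] at this
  · rintro _ ⟨g, hg, rfl⟩ _ ⟨a, ha, rfl⟩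
    rw [← map_mul, hg.2 a ha, map_mul]

theorem St.quot (h : St V P F R) (M : Subgroup X) [M.Normal] (h1 : (Nat.card F).Coprime (Nat.card M))
    (h2 : (Nat.card R).Coprime (Nat.card M)) : St (V.map (QuotientGroup.mk' M)) (P.map (QuotientGroup.mk' M))
      (F.map (QuotientGroup.mk' M)) (R.map (QuotientGroup.mk' M)) := by
  have := h.sol
  have := h.nil
  have co : ∀ {A B : Subgroup X}, (Nat.card A).Coprime (Nat.card B) →
      (Nat.card (A.map (QuotientGroup.mk' M))).Coprime (Nat.card (B.map (QuotientGroup.mk' M))) :=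
    fun e => (e.coprime_dvd_left (card_map_dvd _ _)).coprime_dvd_right (card_map_dvd _ _)
  refine ⟨hy_map h.hy M, map_le_normalizer_map _ h.nPV, map_le_normalizer_map _ h.nRV, map_le_normalizer_map _ h.nFP,
    map_le_normalizer_map _ h.nRP, map_le_normalizer_map _ h.nRF, isSolvable_map _ _, isNilpotent_map _ _,
    (card_map_co h2).symm ▸ h.pr, co h.cPV, co h.cFV, co h.cRV, co h.cFP, co h.cRP, co h.cRF, ?_⟩
  rw [cen_map h.nRF h1, card_map_co (h1.coprime_dvd_left (card_dvd_of_le inf_le_left))]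
  exact h.alt.imp (fun e => by rw [e, Subgroup.map_bot]) fun e => ⟨e.1, (hy_map ⟨h.nFP, h.hy.nil, e.2⟩ M).fpf⟩

end

universe u

theorem key_aux (n : ℕ) : ∀ (X : Type u) [Group X] [Finite X] (V P F R : Subgroup X),
    Nat.card V * Nat.card P * Nat.card F = n → St V P F R → ∀ c ∈ P, Fx V R c → ∀ u ∈ V, c * u = u * c := by
  induction n using Nat.strong_induction_on with
  | _ n ih =>
  suffices H0 : ∀ (X : Type u) [Group X] [Finite X] (V P F R : Subgroup X), V ⊔ P ⊔ F ⊔ R = ⊤ →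
      Nat.card V * Nat.card P * Nat.card F = n → St V P F R → ∀ c ∈ P, Fx V R c → ∀ u ∈ V, c * u = u * c by
    intro X _ _ V P F R hn h c hcP hc u hu
    have h1 : V ≤ V ⊔ P ⊔ F ⊔ R := le_sup_of_le_left (le_sup_of_le_left le_sup_left)
    have h2 : P ≤ V ⊔ P ⊔ F ⊔ R := le_sup_of_le_left (le_sup_of_le_left le_sup_right)
    have h4 : F ≤ V ⊔ P ⊔ F ⊔ R := le_sup_of_le_left le_sup_right
    exact congrArg Subtype.val (H0 ↥(V ⊔ P ⊔ F ⊔ R) (V.subgroupOf _) (P.subgroupOf _) (F.subgroupOf _) (R.subgroupOf _)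
      (by rw [← subgroupOf_sup h1 h2, ← subgroupOf_sup (sup_le h1 h2) h4, ← subgroupOf_sup le_sup_left le_sup_right,
        subgroupOf_self]) (by rw [card_subgroupOf_of_le h1, card_subgroupOf_of_le h2, card_subgroupOf_of_le h4, hn])
      (h.sub h1 h2 h4 le_sup_right) ⟨c, h2 hcP⟩ hcP ⟨fun a ha => Subtype.ext (hc.1 a ha),
      fun u hu e => Subtype.ext (hc.2 u hu fun a ha => congrArg Subtype.val (e ⟨a, mem_sup_right ha⟩ ha))⟩ ⟨u, h1 hu⟩ hu)
  intro X _ _ V P F R hT hn h c hcP hc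
  have hVn : V.Normal := normalizer_eq_top_iff.1 (top_le_iff.1 (hT ▸ sup_le (sup_le (sup_le le_normalizer h.nPV) h.hy.nm) h.nRV))
  have ihq : ∀ (M : Subgroup X) [M.Normal], (Nat.card F).Coprime (Nat.card M) → (Nat.card R).Coprime (Nat.card M) →
      V ⊓ M ≠ ⊥ ∨ P ⊓ M ≠ ⊥ → ∀ u ∈ V, c * u * c⁻¹ * u⁻¹ ∈ M := by
    intro M _ c1 c2 hne u hu
    refine mk_comm_iff.1 (ih _ ?_ _ _ _ _ _ rfl (h.quot M c1 c2) _ ⟨c, hcP, rfl⟩ ⟨?_, ?_⟩ _ ⟨u, hu, rfl⟩)
    · rw [← hn, card_map_co c1, ← card_map_mk'_mul V M, ← card_map_mk'_mul P M, mul_mul_mul_comm]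
      refine Nat.mul_lt_mul_of_pos_right (lt_mul_of_one_lt_right (Nat.mul_pos Nat.card_pos Nat.card_pos) ?_) Nat.card_pos
      rcases hne with e | e
      exacts [one_lt_mul_of_lt_of_le ((one_lt_card_iff_ne_bot _).2 e) Nat.card_pos,
        one_lt_mul_of_le_of_lt Nat.card_pos ((one_lt_card_iff_ne_bot _).2 e)]
    · rintro _ ⟨a, ha, rfl⟩
      rw [← map_mul, hc.1 a ha, map_mul]
    · rintro _ ⟨v, hv, rfl⟩ e
      obtain ⟨k, hk, e'⟩ := coprime_fixed_point_quotient R (V ⊓ M) (nm_top _) (c2.coprime_dvd_right (card_dvd_of_le inf_le_right))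
        (Or.inl (solv_prime h.pr)) v (nm_top ⊤ (mem_top v)) fun a ha =>
          mem_inf.2 ⟨mul_mem (hVn.conj_mem v hv a) (inv_mem hv), mk_comm_iff.1 (e _ ⟨a, ha, rfl⟩).symm⟩
      simpa [(QuotientGroup.eq_one_iff k).2 (mem_inf.1 hk).2] using
        congrArg (QuotientGroup.mk' M) (hc.2 _ (mul_mem hv (mem_inf.1 hk).1) fun a ha => (e' a ha).symm)
  by_cases hV0 : V = ⊥
  · intro u hu
    simp [mem_bot.1 (hV0 ▸ hu)]
  obtain ⟨W, hW, hWV⟩ := exists_isMinNormal_le V hV0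
  have := hW.normal
  rcases hWV.lt_or_eq with hlt | rfl
  · have h1 := ih _ (hn ▸ Nat.mul_lt_mul_of_pos_right (Nat.mul_lt_mul_of_pos_right (card_lt_of_lt hlt) Nat.card_pos) Nat.card_pos)
      X W P F R rfl (h.monoV hWV (nm_top _) (nm_top _) (nm_top _)) c hcP ⟨hc.1, fun u hu => hc.2 u (hWV hu)⟩
    have h2 := ihq W (h.cFV.coprime_dvd_right (card_dvd_of_le hWV)) (h.cRV.coprime_dvd_right (card_dvd_of_le hWV))
      (Or.inl (by rw [inf_eq_right.2 hWV]; exact hW.ne_bot))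
    have h4 : ∀ {L : Subgroup X}, (∀ u ∈ L, c * u = u * c) → L ≤ centralizer (zpowers c : Set X) := fun e =>
      le_centralizer_iff.1 (zpowers_le.2 fun u hu => (e u hu).symm)
    refine fun u hu => coprime_le_centralizer_of_trivial_on_factors (zpowers c) V W (nm_top _)
      ((h.cPV.coprime_dvd_left (card_dvd_of_le (zpowers_le.2 hcP))).coprime_dvd_right (card_dvd_of_le hWV)) (h4 h1) ?_ hu c
      (mem_zpowers c)
    rw [← map_mk'_eq_bot_iff, map_commutator, commutator_eq_bot_iff_le_centralizer, MonoidHom.map_zpowers]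
    rintro _ ⟨v, hv, rfl⟩
    exact fun y hy => mem_centralizer_singleton_iff.1
      (zpowers_le.2 (mem_centralizer_singleton_iff.2 (mk_comm_iff.2 (h2 v hv))) hy)
  obtain ⟨p, hp, hE⟩ := hW.exists_isElementaryAbelian_of_isSolvable h.sol
  have := hE.1
  by_cases h0 : P ⊓ centralizer (W : Set X) = ⊥
  · simp [core hW hT h h0 (fun V' P' F' e => ih _ (hn ▸ e) X V' P' F' R rfl) hcP hc]
  have : (P ⊓ centralizer (W : Set X)).Normal := normalizer_eq_top_iff.1 (top_le_iff.1 (hT ▸ sup_le (sup_le (sup_le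
    ((le_centralizer_iff.1 inf_le_right).trans (centralizer_le_normalizer _)) (nm_inf le_normalizer (nm_cen (nm_top _))))
    (nm_inf h.nFP (nm_cen (nm_top _)))) (nm_inf h.nRP (nm_cen (nm_top _)))))
  intro u hu
  have h1 : c * u * c⁻¹ * u⁻¹ ∈ P ⊓ W := mem_inf.2 ⟨(ihq _ (h.cFP.coprime_dvd_right (card_dvd_of_le inf_le_left))
    (h.cRP.coprime_dvd_right (card_dvd_of_le inf_le_left)) (Or.inr (by rwa [inf_eq_right.2 inf_le_left])) u hu).1,
    mul_mem (hVn.conj_mem u hu c) (inv_mem hu)⟩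
  rwa [(disjoint_of_coprime_natCard h.cPV).eq_bot, mem_bot, mul_inv_eq_one, mul_inv_eq_iff_eq_mul] at h1

/-- an element of `C_P(R)` centralising `C_V(R)` centralises `V` -/
theorem St.key {X : Type u} [Group X] [Finite X] {V P F R : Subgroup X} (h : St V P F R) {c : X} (hcP : c ∈ P)
    (hc : Fx V R c) : ∀ u ∈ V, c * u = u * c := key_aux _ X V P F R rfl h c hcP hc

end CL.XF
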