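import Mathlib
import Cfsg.Agent.FGS.KH.Main
import Cfsg.Agent.FGS.XF.Key

/-!
# Prime order top of an extraspecial group of operators: the Fitting subgroup of the fixed points
-/

set_option autoImplicit false
set_option linter.unusedSectionVars false
set_option linter.unusedVariables false

open Subgroup Cfsg
open scoped Pointwise commutatorElement

namespace CL.XF

open CL.Misc CL.FroA CL.KH

section
variable {X : Type*} [Group X] [Finite X]

/-- `F R` acts coprimely on the solvable group `G`, `C_G(F) = 1`, and `C_F(R)` has order one or a prime. -/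
structure Gl (G F R : Subgroup X) : Prop where
  hy : Hy G F
  nRG : R ≤ normalizer (G : Set X)
  nRF : R ≤ normalizer (F : Set X)
  sol : Group.IsSolvable G
  pr : (Nat.card R).Prime
  cF : (Nat.card F).Coprime (Nat.card G)
  cR : (Nat.card R).Coprime (Nat.card G)
  cRF : (Nat.card R).Coprime (Nat.card F)
  sm : F ⊓ centralizer (R : Set X) = ⊥ ∨ (Nat.card (F ⊓ centralizer (R : Set X) : Subgroup X)).Prime

variable {G F R D : Subgroup X}

theorem Gl.st (h : Gl G F R) {V P : Subgroup X} (hV : V ≤ G) (hP : P ≤ G) (n1 : P ≤ normalizer (V : Set X))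
    (n2 : F ≤ normalizer (V : Set X)) (n3 : R ≤ normalizer (V : Set X)) (n4 : F ≤ normalizer (P : Set X))
    (n5 : R ≤ normalizer (P : Set X)) (hnil : Group.IsNilpotent P) (hc : (Nat.card P).Coprime (Nat.card V)) : St V P F R :=
  ⟨h.hy.mono hV n2, n1, n3, n4, n5, h.nRF, isSolvable_of_le hV h.sol, hnil, h.pr, hc, h.cF.coprime_dvd_right (card_dvd_of_le hV),
    h.cR.coprime_dvd_right (card_dvd_of_le hV), h.cF.coprime_dvd_right (card_dvd_of_le hP),
    h.cR.coprime_dvd_right (card_dvd_of_le hP), h.cRF, h.sm.imp_right fun e => ⟨e, fun g hg => h.hy.fpf g (hP hg)⟩⟩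

theorem Gl.mono (h : Gl G F R) {G' : Subgroup X} (hle : G' ≤ G) (h1 : F ≤ normalizer (G' : Set X))
    (h2 : R ≤ normalizer (G' : Set X)) : Gl G' F R :=
  ⟨h.hy.mono hle h1, h2, h.nRF, isSolvable_of_le hle h.sol, h.pr, h.cF.coprime_dvd_right (card_dvd_of_le hle),
    h.cR.coprime_dvd_right (card_dvd_of_le hle), h.cRF, h.sm⟩

theorem Gl.sub (h : Gl G F R) {Y : Subgroup X} (hG : G ≤ Y) (hF : F ≤ Y) (hR : R ≤ Y) :
    Gl (G.subgroupOf Y) (F.subgroupOf Y) (R.subgroupOf Y) := by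
  refine ⟨⟨nm_sub h.hy.nm Y, isNilpotent_subgroupOf h.hy.nil _, fun g hg e =>
    Subtype.ext (h.hy.fpf g hg fun a ha => congrArg Subtype.val (e ⟨a, hF ha⟩ ha))⟩, nm_sub h.nRG Y, nm_sub h.nRF Y,
    isSolvable_subgroupOf h.sol _, ?_, ?_, ?_, ?_, ?_⟩
  any_goals simp only [card_subgroupOf_of_le hG, card_subgroupOf_of_le hF, card_subgroupOf_of_le hR]
  exacts [h.pr, h.cF, h.cR, h.cRF, by
    rw [cen_sub hR, card_subgroupOf_of_le (inf_le_left.trans hF)]
    exact h.sm.imp_left fun e => by rw [e, bot_subgroupOf]]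

theorem Gl.quot (h : Gl G F R) {M : Subgroup X} [M.Normal] (hle : M ≤ G) :
    Gl (G.map (QuotientGroup.mk' M)) (F.map (QuotientGroup.mk' M)) (R.map (QuotientGroup.mk' M)) := by
  have := h.sol
  have h1 := h.cF.coprime_dvd_right (card_dvd_of_le hle)
  have co : ∀ {A B : Subgroup X}, (Nat.card A).Coprime (Nat.card B) →
      (Nat.card (A.map (QuotientGroup.mk' M))).Coprime (Nat.card (B.map (QuotientGroup.mk' M))) :=
    fun e => (e.coprime_dvd_left (card_map_dvd _ _)).coprime_dvd_right (card_map_dvd _ _)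
  refine ⟨hy_map h.hy M, map_le_normalizer_map _ h.nRG, map_le_normalizer_map _ h.nRF, isSolvable_map _ _,
    (card_map_co (h.cR.coprime_dvd_right (card_dvd_of_le hle))).symm ▸ h.pr, co h.cF, co h.cR, co h.cRF, ?_⟩
  rw [cen_map h.nRF h1, card_map_co (h1.coprime_dvd_left (card_dvd_of_le inf_le_left))]
  exact h.sm.imp_left fun e => by rw [e, Subgroup.map_bot]

theorem Gl.map_fix (h : Gl G F R) {M : Subgroup X} [M.Normal] (hle : M ≤ G) : G.map (QuotientGroup.mk' M) ⊓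
    centralizer ((R.map (QuotientGroup.mk' M) : Subgroup (X ⧸ M)) : Set (X ⧸ M)) =
      (G ⊓ centralizer (R : Set X)).map (QuotientGroup.mk' M) :=
  have e := QuotientGroup.ker_mk' M
  inf_centralizer_map_of_coprime _ R G (e.symm ▸ hle) (e.symm ▸ h.cR.coprime_dvd_right (card_dvd_of_le hle))
    (Or.inl (solv_prime h.pr))

theorem Gl.syl (h : Gl G F R) (q : ℕ) [Fact q.Prime] : ∃ Q, SylIn q Q G ∧ F ≤ normalizer (Q : Set X) ∧
    R ≤ normalizer (Q : Set X) ∧ SylIn q (Q ⊓ centralizer (R : Set X)) (G ⊓ centralizer (R : Set X)) := by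
  obtain ⟨P, hP⟩ := exists_sylIn (p := q) G
  obtain ⟨Q, hQ, h1⟩ := h.hy.cov.syl h.hy.nm hP
  have h2 : R ≤ normalizer (Q : Set X) := fun a ha => h.hy.mem_nm_syl hQ h1 (h.nRG ha) (h.nRF ha)
  obtain ⟨S, e⟩ := coprime_invariant_sylow_inf_centralizer R G h.nRG h.cR (Or.inr h.sol) q hQ.toSylow
    (hQ.map_toSylow.symm ▸ h2)
  exact ⟨Q, hQ, h1, h2, by rw [← hQ.map_toSylow, ← e]; exact sylIn_map_subtype S⟩

theorem core_bot [G.Normal] (h : Gl G F R) {π : Set ℕ} (h0 : piCore π X ⊓ G = ⊥)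
    (hD : D ≤ G ⊓ centralizer (R : Set X)) (hn : G ⊓ centralizer (R : Set X) ≤ normalizer (D : Set X))
    (hπ : IsPiNum π (Nat.card D)) : D = ⊥ := by
  by_contra hne
  obtain ⟨q, hq, hd⟩ := Nat.exists_prime_and_dvd (mt card_eq_one.1 hne)
  have := Fact.mk hq
  obtain ⟨Q, hQ, h1, h2, hS⟩ := h.syl q
  obtain ⟨⟨c, hc⟩, hc1⟩ := ne_bot_iff_exists_ne_one.1 ((hS.inf_normal hD hn).ne_bot hd)
  have hP : (fittingOf G).Normal := by rw [fittingOf_of_normal]; infer_instance
  have := isNilpotent_fittingOf G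
  have h3 : IsPiNum πᶜ (Nat.card (fittingOf G)) := by
    have e := (isPiHall_iff.1 (isPiHall_piCore_of_isNilpotent π (fittingOf G))).2
    rwa [(map_eq_bot_iff_of_injective _ (subtype_injective _)).1 ((map_piCore_of_normal _).trans
      (le_bot_iff.1 ((inf_le_inf_left _ (fittingOf_le G)).trans h0.le))), index_bot] at e
  have h4 := (disjoint_of_coprime_natCard (hπ.coprime h3)).eq_bot
  refine hc1 (Subtype.ext (mem_bot.1 (h4 ▸ mem_inf.2 ⟨hc.2, centralizer_fittingOf_inf_le h.sol ⟨fun u hu => ?_, hQ.le hc.1.1⟩⟩)))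
  refine ((h.st (fittingOf_le G) hQ.le (nm_top _) (nm_top _) (nm_top _) h1 h2 hQ.isPGroup.isNilpotent
    ((IsPiNum.of_isPGroup hQ.isPGroup (hπ q hq hd)).coprime h3)).key hc.1.1 ⟨hc.1.2, fun u hu e => ?_⟩ u hu).symm
  have : c * u * c⁻¹ * u⁻¹ ∈ D ⊓ fittingOf G := mem_inf.2 ⟨by
    simpa [mul_assoc] using mul_mem hc.2 (conj_mem (hn ⟨fittingOf_le G hu, fun a ha => (e a ha).symm⟩) (inv_mem hc.2)),
    mul_mem (hP.conj_mem u hu c) (inv_mem hu)⟩
  rwa [h4, mem_bot, mul_inv_eq_one, mul_inv_eq_iff_eq_mul] at this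

/-- normal `π`-subgroups of `C_G(R)` lie in `O_π` -/
theorem Gl.core_le [hG : G.Normal] (h : Gl G F R) {π : Set ℕ}
    (hD : D ≤ G ⊓ centralizer (R : Set X)) (hn : G ⊓ centralizer (R : Set X) ≤ normalizer (D : Set X))
    (hπ : IsPiNum π (Nat.card D)) : D ≤ piCore π X := by
  have := Normal.map hG _ (QuotientGroup.mk'_surjective (piCore π X ⊓ G))
  refine ((map_mk'_eq_bot_iff _ _).1 (core_bot (h.quot (M := piCore π X ⊓ G) inf_le_right) (π := π) ?_
    (by rw [h.map_fix inf_le_right]; exact map_mono hD) (by rw [h.map_fix inf_le_right]; exact map_le_normalizer_map _ hn)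
    (hπ.of_dvd (card_map_dvd _ _)))).trans inf_le_left
  rw [← map_mk'_piCore _ (isPiNum_card_of_le_piCore inf_le_left), eq_bot_iff]
  rintro _ ⟨⟨a, ha, rfl⟩, g, hg, e⟩
  exact (QuotientGroup.eq_one_iff a).2 ⟨ha, by simpa using mul_mem hg (QuotientGroup.eq.1 e).2⟩

theorem Gl.fit_le [G.Normal] (h : Gl G F R) (hD : D ≤ G ⊓ centralizer (R : Set X))
    (hn : G ⊓ centralizer (R : Set X) ≤ normalizer (D : Set X)) (hnil : Group.IsNilpotent D) : D ≤ fittingSubgroup X :=
  le_of_forall_isPGroup_le fun p _ P => (h.core_le ((map_subtype_le _).trans hD)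
    (hn.trans (normalizer_le_normalizer_sylow_of_isNilpotent hnil P)) (isPGroup_iff_isPiNum.1 (P.isPGroup'.map _))).trans
      (pCore_eq_piCore p X ▸ pCore_le_fittingSubgroup p)

theorem Gl.fit_le' (h : Gl G F R) : fittingOf (G ⊓ centralizer (R : Set X)) ≤ fittingOf G := by
  have hG : G ≤ normalizer (G : Set X) := le_normalizer
  have := normal_in_normalizer (H := G)
  have h1 := (h.sub hG h.hy.nm h.nRG).fit_le (D := (fittingOf (G ⊓ centralizer (R : Set X))).subgroupOf _)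
    (by rw [cen_sub h.nRG]; exact comap_mono (fittingOf_le _)) (by rw [cen_sub h.nRG]; exact nm_sub (le_normalizer_fittingOf _) _)
    (isNilpotent_subgroupOf (isNilpotent_fittingOf _) _)
  have := isNilpotent_of_le (isNilpotent_fittingSubgroup (normalizer (G : Set X))) (inf_le_left (b := G.subgroupOf _))
  refine fun x hx => le_fittingOf (N := (fittingSubgroup (normalizer (G : Set X)) ⊓ G.subgroupOf _).map (Subgroup.subtype _))
    (map_le_iff_le_comap.2 inf_le_right) (hG.trans (le_normalizer_map_subtype _ _)) (isNilpotent_map _ _)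
    ⟨⟨x, hG (fittingOf_le _ hx).1⟩, ⟨h1 hx, (fittingOf_le _ hx).1⟩, rfl⟩

theorem cen_le_der (hn : R ≤ normalizer (F : Set X)) (hc : (Nat.card R).Coprime (Nat.card F)) (h : ⁅F, R⁆ = F) {x : X}
    (hx : x ∈ F) (e : x ∈ centralizer (R : Set X)) : (⟨x, hx⟩ : F) ∈ commutator F := by
  classical
  have := Fintype.ofFinite R
  let σ : R →* MulAut F := F.normalizerMonoidHom.comp (inclusion hn)
  let θ : F →* Abelianization F := ∏ a : R, Abelianization.of.comp (σ a).toMonoidHom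
  have hθ : ∀ y, θ y = ∏ a : R, Abelianization.of (σ a y) := fun y => by simp [θ]
  have h1 : ∀ (b : R) y, θ (σ b y) = θ y := fun b y => by
    rw [hθ, hθ]
    exact Fintype.prod_equiv (Equiv.mulRight b) _ _ fun a => by simp
  have h2 : ⁅F, R⁆ ≤ θ.ker.map F.subtype := commutator_le.2 fun y hy a ha =>
    ⟨⟨y, hy⟩ * (σ ⟨a, ha⟩ ⟨y, hy⟩)⁻¹, by simp [MonoidHom.mem_ker, h1], by
      change y * (a * y * a⁻¹)⁻¹ = _
      rw [commutatorElement_def]; group⟩
  obtain ⟨w, hw, e1⟩ := h2 (h.ge hx)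
  obtain rfl : w = ⟨x, hx⟩ := Subtype.ext e1
  rw [SetLike.mem_coe, MonoidHom.mem_ker, hθ, Finset.prod_congr rfl fun (a : R) _ => congrArg Abelianization.of
    (show σ a ⟨x, hx⟩ = ⟨x, hx⟩ from Subtype.ext (mul_inv_eq_iff_eq_mul.2 (e a a.2))), Finset.prod_const, Finset.card_univ,
    ← Nat.card_eq_fintype_card] at hw
  rw [← Abelianization.ker_of, MonoidHom.mem_ker]
  exact orderOf_eq_one_iff.1 (Nat.eq_one_of_dvd_coprimes hc (orderOf_dvd_of_pow_eq_one hw)
    ((orderOf_map_dvd _ _).trans (orderOf_dvd_natCard _)))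

/-- the hypotheses of S4360 give the setting -/
theorem gl_of {r s : ℕ} (hr : r.Prime) (hs : s.Prime) (hR : Nat.card R = r) (hF : IsExtraspecial s F)
    (hRF : R ≤ normalizer (F : Set X)) (hcomm : ⁅F, R⁆ = F) (hRX : R ≤ normalizer (G : Set X)) (hFX : F ≤ normalizer (G : Set X))
    (hcop : ¬ r ∣ Nat.card G) (hCF : G ⊓ centralizer (F : Set X) = ⊥) (hsol : Group.IsSolvable G) : Gl G F R := by
  have := Fact.mk hs
  have h1 : (Nat.card R).Coprime (Nat.card F) := by
    refine coprime_card_of_isPGroup hF.1.1 (hR ▸ (Nat.coprime_primes hr hs).2 ?_)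
    rintro rfl
    refine (commutator_lt_of_isPGroup hF.1.1 (IsPGroup.of_card (hR.trans (pow_one r).symm)) hRF fun e => ?_).ne hcomm
    subst e
    have h2 := card_subgroup_dvd_card (center (⊥ : Subgroup X))
    rw [hF.2, card_bot] at h2
    exact hr.ne_one (Nat.dvd_one.1 h2)
  refine ⟨⟨hFX, hF.1.1.isNilpotent, fun g hg e => (eq_bot_iff_forall _).1 hCF g ⟨hg, e⟩⟩, hRX, hRF, hsol, hR ▸ hr,
    (coprime_card_of_isPGroup hF.1.1 (hs.coprime_iff_not_dvd.2 fun e => ?_).symm).symm, hR ▸ hr.coprime_iff_not_dvd.2 hcop, h1, ?_⟩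
  · exact hs.ne_one (Nat.dvd_one.1 (by simpa [hCF] using exists_pfix hF.1.1 hFX e))
  have h2 : F ⊓ centralizer (R : Set X) ≤ (center F).map F.subtype := fun x hx =>
    ⟨⟨x, hx.1⟩, hF.1.2.2 ▸ cen_le_der hRF h1 hcomm hx.1 hx.2, rfl⟩
  have h3 := card_dvd_of_le h2
  rw [card_map_of_injective (subtype_injective _), hF.2] at h3
  exact ((Nat.dvd_prime hs).1 h3).imp card_eq_one.1 fun e => by rwa [e]

end

/-- S4360 for solvable `X`. -/
theorem fit_le {Γ : Type*} [Group Γ] [Finite Γ]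
    (R F X : Subgroup Γ) (r s : ℕ) (hr : r.Prime) (hs : s.Prime) (hR : Nat.card R = r) (hF : Cfsg.IsExtraspecial s F)
    (hRF : R ≤ Subgroup.normalizer (F : Set Γ)) (hcomm : ⁅F, R⁆ = F)
    (hRX : R ≤ Subgroup.normalizer (X : Set Γ)) (hFX : F ≤ Subgroup.normalizer (X : Set Γ)) (hdisj : (R ⊔ F) ⊓ X = ⊥)
    (hcop : ¬ r ∣ Nat.card X) (hCF : X ⊓ Subgroup.centralizer (F : Set Γ) = ⊥) (hsol : Group.IsSolvable X) :
    (Cfsg.fittingSubgroup ↥(X ⊓ Subgroup.centralizer (R : Set Γ))).map (X ⊓ Subgroup.centralizer (R : Set Γ)).subtype ≤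
      (Cfsg.fittingSubgroup X).map X.subtype :=
  (gl_of hr hs hR hF hRF hcomm hRX hFX hcop hCF hsol).fit_le'

end CL.XF
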